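import Mathlib
import Cfsg.Agent.Prune
set_option linter.all false
prune_inst 0x7f00000000000000000000000000000000000000000000000000000000000000000000000000000000000000000000000000000000000000000000000000000000000000000000000000000000000000003fffffffffffffffffffffffffffbeffbdffffffff
open scoped Cfsg.Agent.FastGrp

/-!
# Permutations: cycle lengths and orders (helper968)
-/

set_option autoImplicit false

namespace Cfsg.Agent.H968.TwoPerm

open Equiv.Perm

/-- A prime power dividing the least common multiple of a multiset divides one of its members. -/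
theorem exists_dvd_of_dvd_lcm {r e : ℕ} (hr : r.Prime) (he : e ≠ 0) (s : Multiset ℕ) (hs : ∀ c ∈ s, c ≠ 0)
    (h : r ^ e ∣ s.lcm) : ∃ c ∈ s, r ^ e ∣ c := by
  induction s using Multiset.induction_on with
  | empty =>
    rw [Multiset.lcm_zero] at h
    exact absurd (Nat.dvd_one.1 h) (by
      intro h1
      exact (Nat.one_lt_pow he hr.one_lt).ne' h1)
  | cons a s ih =>
    rw [Multiset.lcm_cons] at h
    have ha : a ≠ 0 := hs a (Multiset.mem_cons_self a s)
    have hs0 : s.lcm ≠ 0 := by
      rw [Ne, Multiset.lcm_eq_zero_iff]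
      intro h0
      exact hs 0 (Multiset.mem_cons_of_mem h0) rfl
    have h1 : r ^ e ∣ a ∨ r ^ e ∣ s.lcm := by
      change r ^ e ∣ Nat.lcm a s.lcm at h
      rw [hr.pow_dvd_iff_le_factorization (Nat.lcm_ne_zero ha hs0), Nat.factorization_lcm ha hs0] at h
      rw [hr.pow_dvd_iff_le_factorization ha, hr.pow_dvd_iff_le_factorization hs0]
      simpa using h
    rcases h1 with h1 | h1
    · exact ⟨a, Multiset.mem_cons_self a s, h1⟩
    · obtain ⟨c, hc, hd⟩ := ih (fun c hc => hs c (Multiset.mem_cons_of_mem hc)) h1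
      exact ⟨c, Multiset.mem_cons_of_mem hc, hd⟩

variable {Ω : Type*} [Fintype Ω] [DecidableEq Ω]

theorem exists_cycle {r e : ℕ} (hr : r.Prime) (he : e ≠ 0) (σ : Equiv.Perm Ω) (h : r ^ e ∣ orderOf σ) :
    ∃ c ∈ σ.cycleType, r ^ e ∣ c := by
  apply exists_dvd_of_dvd_lcm hr he σ.cycleType
  · intro c hc
    have := two_le_of_mem_cycleType hc
    omega
  · rw [lcm_cycleType]; exact h

theorem sum_two {c d : ℕ} {s : Multiset ℕ} (hc : c ∈ s) (hd : d ∈ s) (hcd : c ≠ d) : c + d ≤ s.sum := by
  obtain ⟨t, rfl⟩ := Multiset.exists_cons_of_mem hc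
  rw [Multiset.mem_cons] at hd
  rcases hd with hd | hd
  · exact absurd hd.symm hcd
  · obtain ⟨t', rfl⟩ := Multiset.exists_cons_of_mem hd
    simp only [Multiset.sum_cons]
    omega

theorem sum_three {c d e : ℕ} {s : Multiset ℕ} (hc : c ∈ s) (hd : d ∈ s) (he : e ∈ s) (hcd : c ≠ d) (hce : c ≠ e)
    (hde : d ≠ e) : c + d + e ≤ s.sum := by
  obtain ⟨t, rfl⟩ := Multiset.exists_cons_of_mem hc
  rw [Multiset.mem_cons] at hd he
  rcases hd with hd | hd
  · exact absurd hd.symm hcd
  rcases he with he | he
  · exact absurd he.symm hce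
  have := sum_two hd he hde
  simp only [Multiset.sum_cons]
  omega

theorem sum_one {c : ℕ} {s : Multiset ℕ} (hc : c ∈ s) : c ≤ s.sum := Multiset.le_sum_of_mem hc

/-- A prime power dividing the order of a permutation is at most the number of moved points. -/
theorem pow_le_support {r e : ℕ} (hr : r.Prime) (he : e ≠ 0) (σ : Equiv.Perm Ω) (h : r ^ e ∣ orderOf σ) :
    r ^ e ≤ σ.support.card := by
  obtain ⟨c, hc, hd⟩ := exists_cycle hr he σ h
  have h2 := two_le_of_mem_cycleType hc
  have := Nat.le_of_dvd (by omega) hd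
  have h3 := sum_one hc
  rw [sum_cycleType] at h3
  omega

theorem support_le_of_fix {σ : Equiv.Perm Ω} {a b : Ω} (hab : a ≠ b) (ha : σ a = a) (hb : σ b = b) :
    σ.support.card + 2 ≤ Fintype.card Ω := by
  have h : σ.support ⊆ ({a, b} : Finset Ω)ᶜ := by
    intro x hx
    rw [Finset.mem_compl, Finset.mem_insert, Finset.mem_singleton]
    rintro (rfl | rfl)
    · exact (mem_support.1 hx) ha
    · exact (mem_support.1 hx) hb
  have h1 := Finset.card_le_card h
  rw [Finset.card_compl, Finset.card_pair hab] at h1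
  have h2 : 2 ≤ Fintype.card Ω := by
    rw [← Finset.card_pair hab]
    exact Finset.card_le_univ _
  omega

/-- No permutation fixing two of at most 11 points has order divisible by 72. -/
theorem not_72 (σ : Equiv.Perm Ω) (h : 72 ∣ orderOf σ) : 17 ≤ σ.support.card := by
  obtain ⟨c, hc, hd⟩ := exists_cycle (r := 2) (e := 3) Nat.prime_two (by norm_num) σ (dvd_trans (by norm_num) h)
  obtain ⟨c', hc', hd'⟩ := exists_cycle (r := 3) (e := 2) Nat.prime_three (by norm_num) σ (dvd_trans (by norm_num) h)
  have h2 := two_le_of_mem_cycleType hc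
  have h2' := two_le_of_mem_cycleType hc'
  norm_num at hd hd'
  by_cases hcc : c = c'
  · subst hcc
    have : 72 ∣ c := by
      have := Nat.Coprime.mul_dvd_of_dvd_of_dvd (by norm_num : Nat.Coprime 8 9) hd hd'
      simpa using this
    have h3 := Nat.le_of_dvd (by omega) this
    have h4 := sum_one hc
    rw [sum_cycleType] at h4
    omega
  · have h4 := sum_two hc hc' hcc
    rw [sum_cycleType] at h4
    have := Nat.le_of_dvd (by omega) hd
    have := Nat.le_of_dvd (by omega) hd'
    omega

theorem not_60 (σ : Equiv.Perm Ω) (h : 60 ∣ orderOf σ) : 12 ≤ σ.support.card := by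
  by_contra hlt
  push Not at hlt
  obtain ⟨c, hc, hd⟩ := exists_cycle (r := 2) (e := 2) Nat.prime_two (by norm_num) σ (dvd_trans (by norm_num) h)
  obtain ⟨c', hc', hd'⟩ := exists_cycle (r := 3) (e := 1) Nat.prime_three (by norm_num) σ (dvd_trans (by norm_num) h)
  obtain ⟨c'', hc'', hd''⟩ := exists_cycle (r := 5) (e := 1) Nat.prime_five (by norm_num) σ (dvd_trans (by norm_num) h)
  norm_num at hd hd' hd''
  have h2 := two_le_of_mem_cycleType hc
  have h2' := two_le_of_mem_cycleType hc'
  have h2'' := two_le_of_mem_cycleType hc''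
  have k1 := sum_one hc
  have k2 := sum_one hc'
  have k3 := sum_one hc''
  rw [sum_cycleType] at k1 k2 k3
  have n1 : c ≠ c' := by rintro rfl; omega
  have n2 : c ≠ c'' := by rintro rfl; omega
  have n3 : c' ≠ c'' := by rintro rfl; omega
  have h4 := sum_three hc hc' hc'' n1 n2 n3
  rw [sum_cycleType] at h4
  omega

/-- An even permutation of at most 7 points does not have order 12. -/
theorem not_12 (hΩ : Fintype.card Ω ≤ 7) (σ : Equiv.Perm Ω) (h : 12 ∣ orderOf σ) : sign σ = -1 := by
  obtain ⟨c, hc, hd⟩ := exists_cycle (r := 2) (e := 2) Nat.prime_two (by norm_num) σ (dvd_trans (by norm_num) h)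
  obtain ⟨c', hc', hd'⟩ := exists_cycle (r := 3) (e := 1) Nat.prime_three (by norm_num) σ (dvd_trans (by norm_num) h)
  norm_num at hd hd'
  have hs : σ.cycleType.sum ≤ 7 := by
    rw [sum_cycleType]
    exact (Finset.card_le_univ _).trans hΩ
  have h2 := two_le_of_mem_cycleType hc
  have h2' := two_le_of_mem_cycleType hc'
  have k1 := sum_one hc
  have k2 := sum_one hc'
  have n1 : c ≠ c' := by rintro rfl; omega
  have h4 := sum_two hc hc' n1
  have e1 : c = 4 := by omega
  have e2 : c' = 3 := by omega
  subst e1 e2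
  obtain ⟨t, ht⟩ := Multiset.exists_cons_of_mem hc
  rw [ht, Multiset.mem_cons] at hc'
  rcases hc' with hc' | hc'
  · omega
  obtain ⟨t', rfl⟩ := Multiset.exists_cons_of_mem hc'
  rw [ht] at hs
  simp only [Multiset.sum_cons] at hs
  have ht' : t' = 0 := by
    by_contra hne
    obtain ⟨x, hx⟩ := Multiset.exists_mem_of_ne_zero hne
    have h5 := two_le_of_mem_cycleType (σ := σ) (n := x) (by rw [ht]; simp [hx])
    have h6 := sum_one hx
    omega
  subst ht'
  rw [sign_of_cycleType, ht]
  decide

/-- A permutation of order 4 moving at most 5 points is odd. -/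
theorem not_4 (σ : Equiv.Perm Ω) (hs : σ.support.card ≤ 5) (h : orderOf σ = 4) : sign σ = -1 := by
  obtain ⟨c, hc, hd⟩ := exists_cycle (r := 2) (e := 2) Nat.prime_two (by norm_num) σ (by rw [h]; norm_num)
  norm_num at hd
  rw [← sum_cycleType] at hs
  have h2 := two_le_of_mem_cycleType hc
  have k1 := sum_one hc
  have e1 : c = 4 := by omega
  subst e1
  obtain ⟨t, ht⟩ := Multiset.exists_cons_of_mem hc
  rw [ht] at hs
  simp only [Multiset.sum_cons] at hs
  have ht' : t = 0 := by
    by_contra hne
    obtain ⟨x, hx⟩ := Multiset.exists_mem_of_ne_zero hne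
    have h5 := two_le_of_mem_cycleType (σ := σ) (n := x) (by rw [ht]; simp [hx])
    have h6 := sum_one hx
    omega
  subst ht'
  rw [sign_of_cycleType, ht]
  decide

end Cfsg.Agent.H968.TwoPerm
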