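import Cfsg.Agent.H968.TwoCycC
import Cfsg.Agent.S1157
import Cfsg.Agent.S1158
import Cfsg.Agent.S1069
import Cfsg.Agent.FastGrp
import Cfsg.Agent.Prune
set_option linter.all false
prune_inst 0x7f00000000000000000000000000000000000000000000000000000000000000000000000000000000000000000000000000000000000000000000000000000000000000000000000000000000000000003fffffffffffffffffffffffffffbeffbdffffffff
open scoped Cfsg.Agent.FastGrp

-- part: H968/TwoCycD
section
/-!
# 2-transitive simple groups with a cyclic two-point stabiliser: the cases (helper968)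
-/

set_option autoImplicit false

namespace Cfsg.Agent.H968.TwoCyc

open MulAction Cfsg.Agent.H384.TwoTrans

variable {G Ω : Type*} [Group G] [MulAction G Ω] {a b : Ω}

theorem exists_field_four : ∃ (F : Type) (_ : Field F) (_ : Fintype F), Fintype.card F = 4 := by
  have : Fact (Nat.Prime 2) := ⟨Nat.prime_two⟩
  have := Fintype.ofFinite (GaloisField 2 2)
  refine ⟨GaloisField 2 2, inferInstance, this, ?_⟩
  rw [← Nat.card_eq_fintype_card, GaloisField.card 2 2 (by norm_num)]
  norm_num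

theorem Cyc.cases (A : Cyc G Ω a b) (h : Known2 G (Nat.card Ω)) :
    (∃ (F : Type) (_ : Field F) (_ : Fintype F), 4 ≤ Fintype.card F ∧
      Nonempty (G ≃* Matrix.ProjectiveSpecialLinearGroup (Fin 2) F) ∧ Nat.card Ω = Fintype.card F + 1) ∨
    (∃ (F : Type) (_ : Field F) (_ : Fintype F) (m : ℕ), 1 ≤ m ∧ Fintype.card F = 2 ^ (2 * m + 1) ∧
      Nonempty (G ≃* ↥(Cfsg.Lie.Sz F (2 ^ (m + 1)))) ∧ Nat.card Ω = Fintype.card F ^ 2 + 1) ∨
    (∃ (F : Type) (_ : Field F) (_ : Fintype F) (q : ℕ), 3 ≤ q ∧ Fintype.card F = q ^ 2 ∧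
      Nonempty (G ≃* Cfsg.PSU 3 F q) ∧ Nat.card Ω = q ^ 3 + 1) ∨
    (∃ (K : Type) (_ : Field K) (_ : Fintype K) (m : ℕ), 1 ≤ m ∧ Fintype.card K = 3 ^ (2 * m + 1) ∧
      Nonempty (G ≃* ↥(Cfsg.Lie.twistedG2 K (3 ^ m))) ∧ Nat.card Ω = Fintype.card K ^ 3 + 1) := by
  generalize hN : Nat.card Ω = N at h
  cases h with
  | alt n hn e =>
    obtain ⟨e⟩ := e
    by_cases h6 : 6 ≤ N
    · exfalso
      refine A.not_alt (by omega) ?_
      have : Nontrivial (Fin N) := Fin.nontrivial_iff_two_le.2 (by omega)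
      have h1 := two_mul_nat_card_alternatingGroup (α := Fin N)
      rw [Nat.card_perm, Nat.card_fin] at h1
      rw [Nat.card_congr e.toEquiv, hN, mul_comm]
      exact h1
    · have h5 : N = 5 := by omega
      subst h5
      left
      obtain ⟨F, iF, iF', hF⟩ := exists_field_four
      obtain ⟨e'⟩ := Cfsg.Agent.S0252.result hF
      exact ⟨F, iF, iF', hF.ge, ⟨e.trans e'.symm⟩, by rw [hF]⟩
  | psl F d n hd hd2 e hn =>
    obtain ⟨e⟩ := e
    rcases Nat.lt_or_ge d 3 with h3 | h3
    · obtain rfl : d = 2 := by omega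
      left
      refine ⟨F, _, _, hd2 rfl, ⟨e⟩, ?_⟩
      have h4 := hd2 rfl
      obtain ⟨r, hr⟩ : ∃ r, Fintype.card F = r + 1 := ⟨Fintype.card F - 1, by omega⟩
      rw [hr] at hn h4 ⊢
      have h5 : (r + 1) ^ 2 - 1 = (r + 1 + 1) * r := by
        have : (r + 1) ^ 2 = (r + 1 + 1) * r + 1 := by ring
        omega
      rw [h5, Nat.add_sub_cancel] at hn
      exact Nat.eq_of_mul_eq_mul_right (by omega) hn
    · exfalso
      rcases Nat.lt_or_ge d 4 with h4 | h4
      · obtain rfl : d = 3 := by omega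
        exact A.psl_3 rfl e hn hN
      · exact A.psl_ge4 rfl h4 e hn hN
  | sp F m n hF hm e hn =>
    obtain ⟨e⟩ := e
    exact (A.sp hF hm e hn hN).elim
  | psu F q n hq hF e hn => exact Or.inr (Or.inr (Or.inl ⟨F, _, _, q, hq, hF, e, hn⟩))
  | sz F m n hm hF e hn => exact Or.inr (Or.inl ⟨F, _, _, m, hm, hF, e, hn⟩)
  | ree K m n hm hK e hn => exact Or.inr (Or.inr (Or.inr ⟨K, _, _, m, hm, hK, e, hn⟩))
  | psl2_8 F hF e => obtain ⟨e⟩ := e; exact (A.psl2_8 hF e hN).elim
  | psl2_9 F hF e => obtain ⟨e⟩ := e; exact (A.psl2_9 hF e hN).elim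
  | psl2_11 F hF e => obtain ⟨e⟩ := e; exact (A.psl2_11 hF e hN).elim
  | psl4_2 F hF e => obtain ⟨e⟩ := e; exact (A.psl4_2 hF e hN).elim
  | a7 e => obtain ⟨e⟩ := e; exact (A.a7 e hN).elim
  | m11 h => exact (A.m11 h hN).elim
  | m11' h => exact (A.m11' h hN).elim
  | m12 h => exact (A.m12 h hN).elim
  | m22 h => exact (A.m22 h hN).elim
  | m23 h => exact (A.m23 h hN).elim
  | m24 h => exact (A.m24 h hN).elim
  | hs h => exact (A.hs h hN).elim
  | co3 h => exact (A.co3 h hN).elim

end Cfsg.Agent.H968.TwoCyc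
end

-- part: H968/TwoRee
section
/-!
# 2-transitive simple groups with a cyclic two-point stabiliser: the small Ree groups (helper968)
-/

set_option autoImplicit false

namespace Cfsg.Agent.H968.TwoRee

open MulAction Cfsg.Agent.LieRecognition

/-- Facts on the group `G = ²G₂(q)`. -/
structure Facts (G : Type*) [Group G] (K : Type*) [Field K] (q : ℕ) : Prop where
  card : Nat.card G = q ^ 3 * (q - 1) * (q ^ 3 + 1)
  cent : ∃ t : G, orderOf t = 2 ∧
    Nonempty (↥(Subgroup.centralizer ({t} : Set G)) ≃*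
      Matrix.ProjectiveSpecialLinearGroup (Fin 2) K × Multiplicative (ZMod 2))
  conj : ∀ s t : G, orderOf s = 2 → orderOf t = 2 → IsConj s t
  norm : ∀ r : ℕ, r.Prime → r ≠ 2 → r ∣ q - 1 → ∀ X : Subgroup G, Nat.card X = r →
    Nat.card (Subgroup.normalizer (X : Set G)) = 2 * (q - 1)

theorem Facts.congr {G H : Type*} [Group G] [Group H] {K : Type*} [Field K] {q : ℕ} (e : G ≃* H) (F : Facts H K q) :
    Facts G K q where
  card := by rw [Nat.card_congr e.toEquiv, F.card]
  cent := by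
    obtain ⟨t, ht, ⟨f⟩⟩ := F.cent
    refine ⟨e.symm t, by rw [MulEquiv.orderOf_eq, ht], ⟨?_⟩⟩
    refine MulEquiv.trans ?_ f
    refine (e.subgroupMap _).trans (MulEquiv.subgroupCongr ?_)
    ext x
    rw [Subgroup.mem_map, Subgroup.mem_centralizer_singleton_iff]
    constructor
    · rintro ⟨y, hy, rfl⟩
      rw [Subgroup.mem_centralizer_singleton_iff] at hy
      have := congrArg e hy
      simpa using this
    · intro hx
      refine ⟨e.symm x, ?_, by simp⟩
      rw [Subgroup.mem_centralizer_singleton_iff, ← map_mul, ← map_mul, hx]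
  conj := by
    intro s t hs ht
    obtain ⟨g, hg⟩ := isConj_iff.1 (F.conj (e s) (e t) (by rw [MulEquiv.orderOf_eq, hs]) (by rw [MulEquiv.orderOf_eq, ht]))
    refine isConj_iff.2 ⟨e.symm g, e.injective ?_⟩
    rw [map_mul, map_mul, map_inv, MulEquiv.apply_symm_apply, hg]
  norm := by
    intro r hr hr2 hrq X hX
    have h := F.norm r hr hr2 hrq (X.map e.toMonoidHom) (by
      rw [Subgroup.card_map_of_injective e.injective, hX])
    rw [← h]
    refine Nat.card_congr ((e.subgroupMap _).trans (MulEquiv.subgroupCongr ?_)).toEquiv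
    ext x
    rw [Subgroup.mem_map]
    constructor
    · rintro ⟨y, hy, rfl⟩
      rw [Subgroup.mem_normalizer_iff] at hy ⊢
      intro z
      rw [Subgroup.mem_map, Subgroup.mem_map]
      constructor
      · rintro ⟨w, hw, rfl⟩
        exact ⟨y * w * y⁻¹, (hy w).1 hw, by simp⟩
      · rintro ⟨w, hw, hwz⟩
        refine ⟨y⁻¹ * w * y, (hy _).2 ?_, ?_⟩
        · have : y * (y⁻¹ * w * y) * y⁻¹ = w := by group
          rw [this]; exact hw
        · have h1 : e w = e y * z * (e y)⁻¹ := hwz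
          show e (y⁻¹ * w * y) = z
          rw [map_mul, map_mul, map_inv, h1]
          group
    · intro hx
      refine ⟨e.symm x, ?_, by simp⟩
      rw [Subgroup.mem_normalizer_iff] at hx ⊢
      intro z
      have h1 := hx (e z)
      rw [Subgroup.mem_map, Subgroup.mem_map] at h1
      constructor
      · intro hz
        obtain ⟨w, hw, hwz⟩ := h1.1 ⟨z, hz, rfl⟩
        have : w = e.symm x * z * (e.symm x)⁻¹ := by
          apply e.injective
          have h2 : e w = x * e z * x⁻¹ := hwz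
          rw [h2, map_mul, map_mul, map_inv, MulEquiv.apply_symm_apply]
        rw [← this]; exact hw
      · intro hz
        obtain ⟨w, hw, hwz⟩ := h1.2 ⟨_, hz, by simp⟩
        have : w = z := e.injective hwz
        rw [← this]; exact hw

end Cfsg.Agent.H968.TwoRee
end

-- part: H968/TwoReeB
section
/-!
# The facts for the small Ree groups (helper968)
-/

set_option autoImplicit false

namespace Cfsg.Agent.H968.TwoRee

open MulAction Cfsg.Agent.LieRecognition

/-- A subgroup of prime order `r` is conjugate into a subgroup `A` whose order has the same `r`-part as `|G|`. -/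
theorem exists_conj_le {G : Type*} [Group G] [Finite G] {r : ℕ} (hr : r.Prime) (A X : Subgroup G)
    (hA : (Nat.card A).factorization r = (Nat.card G).factorization r) (hX : Nat.card X = r) :
    ∃ g : G, X.map (MulAut.conj g).toMonoidHom ≤ A := by
  have hfact : Fact r.Prime := ⟨hr⟩
  obtain ⟨P⟩ : Nonempty (Sylow r ↥A) := inferInstance
  have hP : Nat.card ((P : Subgroup ↥A).map A.subtype) = r ^ (Nat.card G).factorization r := by
    rw [Subgroup.card_map_of_injective A.subtype_injective, Sylow.card_eq_multiplicity, hA]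
  obtain ⟨Q, hQ⟩ := (IsPGroup.of_card (p := r) (n := 1) (G := X) (by rw [hX, pow_one])).exists_le_sylow
  obtain ⟨g, hg⟩ := MulAction.exists_smul_eq G Q (Sylow.ofCard _ hP)
  refine ⟨g, ?_⟩
  have h1 : ((g • Q : Sylow r G) : Subgroup G) = (P : Subgroup ↥A).map A.subtype := by rw [hg]; rfl
  have h2 : (P : Subgroup ↥A).map A.subtype ≤ A := Subgroup.map_subtype_le _
  refine le_trans ?_ h2
  rw [← h1]
  exact Subgroup.map_mono hQ

theorem card_normalizer_conj {G : Type*} [Group G] (X : Subgroup G) (g : G) :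
    Nat.card (Subgroup.normalizer ((X.map (MulAut.conj g).toMonoidHom : Subgroup G) : Set G)) =
      Nat.card (Subgroup.normalizer (X : Set G)) := by
  refine Nat.card_congr ?_
  refine ((MulAut.conj g⁻¹).subgroupMap _).toEquiv.trans (Equiv.subtypeEquivRight ?_)
  intro x
  rw [Subgroup.mem_map]
  constructor
  · rintro ⟨y, hy, rfl⟩
    rw [Subgroup.mem_normalizer_iff] at hy ⊢
    intro z
    have h1 := hy (g * z * g⁻¹)
    rw [Subgroup.mem_map, Subgroup.mem_map] at h1
    have e1 : ∀ w : G, (∃ u ∈ X, (MulAut.conj g).toMonoidHom u = w) ↔ g⁻¹ * w * g ∈ X := by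
      intro w
      constructor
      · rintro ⟨u, hu, rfl⟩
        have : g⁻¹ * (g * u * g⁻¹) * g = u := by group
        simpa [mul_assoc] using hu
      · intro hw
        exact ⟨_, hw, by simp [mul_assoc]⟩
    rw [e1, e1] at h1
    have e2 : g⁻¹ * (g * z * g⁻¹) * g = z := by group
    have e3 : g⁻¹ * (y * (g * z * g⁻¹) * y⁻¹) * g = (g⁻¹ * y * g) * z * (g⁻¹ * y * g)⁻¹ := by group
    rw [e2, e3] at h1
    simpa [mul_assoc] using h1
  · intro hx
    refine ⟨g * x * g⁻¹, ?_, by simp [mul_assoc]⟩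
    rw [Subgroup.mem_normalizer_iff] at hx ⊢
    intro z
    have h1 := hx (g⁻¹ * z * g)
    rw [Subgroup.mem_map, Subgroup.mem_map]
    have e1 : ∀ w : G, (∃ u ∈ X, (MulAut.conj g).toMonoidHom u = w) ↔ g⁻¹ * w * g ∈ X := by
      intro w
      constructor
      · rintro ⟨u, hu, rfl⟩
        have : g⁻¹ * (g * u * g⁻¹) * g = u := by group
        simpa [mul_assoc] using hu
      · intro hw
        exact ⟨_, hw, by simp [mul_assoc]⟩
    rw [e1, e1]
    have e3 : g⁻¹ * (g * x * g⁻¹ * z * (g * x * g⁻¹)⁻¹) * g = x * (g⁻¹ * z * g) * x⁻¹ := by group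
    rw [e3]
    exact h1

theorem four_lt {m : ℕ} (hm : 1 ≤ m) : 27 ≤ 3 ^ (2 * m + 1) := by
  have : 3 ^ 3 ≤ 3 ^ (2 * m + 1) := Nat.pow_le_pow_right (by norm_num) (by omega)
  omega

/-- `q = 3 ^ (2 m + 1) ≡ 3 (mod 8)`. -/
theorem mod_eight (m : ℕ) : 3 ^ (2 * m + 1) % 8 = 3 := by
  induction m with
  | zero => norm_num
  | succ k ih =>
    have : 3 ^ (2 * (k + 1) + 1) = 9 * 3 ^ (2 * k + 1) := by ring
    rw [this]
    omega

theorem facts {K : Type*} [Field K] [Fintype K] {m : ℕ} (hm : 1 ≤ m) (hK : Fintype.card K = 3 ^ (2 * m + 1)) :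
    Facts ↥(Cfsg.Lie.twistedG2 K (3 ^ m)) K (3 ^ (2 * m + 1)) := by
  obtain ⟨a, haH, ha1, ha2⟩ := Cfsg.Agent.S1157.exists_involution hK
  obtain ⟨⟨ε⟩, hS⟩ := Cfsg.Agent.S1152.result hK a haH ha1 ha2
  have hcharK := Cfsg.Agent.S1157.charP_three hK
  have hcard := Cfsg.Agent.S1069.result hK
  have hq := four_lt hm
  have hfin : Finite ↥(Cfsg.Lie.twistedG2 K (3 ^ m)) := by
    apply Nat.finite_of_card_ne_zero
    rw [hcard]
    have h1 : 3 ^ (2 * m + 1) - 1 ≠ 0 := by omega
    positivity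
  have hcd := ReeCent.centData ha1 ha2 ε ReePSL.klein
  have hconj : ∀ v : ↥(Cfsg.Lie.twistedG2 K (3 ^ m)), orderOf v = 2 → ∃ c, c * a * c⁻¹ = v := by
    intro v hv
    have hv2 : v * v = 1 := by rw [← pow_two, ← hv]; exact pow_orderOf_eq_one v
    have hv1 : v ≠ 1 := by
      rintro rfl
      rw [orderOf_one] at hv
      omega
    exact ReeInv.isConj_involution hcd ReePSL.klein (Cfsg.Agent.S1116.result hK hm) hS hv1 hv2
  have hfac2 : Fact (Nat.Prime 2) := ⟨Nat.prime_two⟩
  refine ⟨hcard, ⟨a, orderOf_eq_prime (by rw [pow_two, ha2]) ha1, ⟨ε.trans MulEquiv.prodComm⟩⟩, ?_, ?_⟩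
  · intro s t hs ht
    obtain ⟨c, hc⟩ := hconj s hs
    obtain ⟨d, hd⟩ := hconj t ht
    exact ((isConj_iff.2 ⟨c, hc⟩ : IsConj a s).symm).trans (isConj_iff.2 ⟨d, hd⟩)
  · intro r hr hr2 hrq X hX
    have hfr : Fact r.Prime := ⟨hr⟩
    obtain ⟨A, hAc, hAcard, hAN, hAall⟩ := Cfsg.Agent.S1158.result hm hK
      ((3 ^ (2 * m + 1) - 1) / 2, 2 * (3 ^ (2 * m + 1) - 1)) (by simp)
    simp only at hAcard hAN
    set q := 3 ^ (2 * m + 1) with hqdef
    -- the `r`-parts
    have hq2 : q - 1 = 2 * ((q - 1) / 2) := by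
      have := mod_eight m
      omega
    have hpos : 0 < (q - 1) / 2 := by omega
    have hr3 : r.Coprime q := by
      rw [Nat.Prime.coprime_iff_not_dvd hr]
      intro h
      have h1 := Nat.dvd_sub h hrq
      have : q - (q - 1) = 1 := by omega
      rw [this] at h1
      exact hr.one_lt.ne' (Nat.dvd_one.1 h1)
    have hr4 : ¬ r ∣ q ^ 3 + 1 := by
      intro h
      have h1 : q ≡ 1 [MOD r] := ((Nat.modEq_iff_dvd' (by omega)).2 hrq).symm
      have h2 : q ^ 3 + 1 ≡ 1 ^ 3 + 1 [MOD r] := (h1.pow 3).add_right 1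
      have h3 : r ∣ 2 := by
        have := (h2.symm.trans (Nat.modEq_zero_iff_dvd.2 h))
        exact (Nat.modEq_zero_iff_dvd.1 this)
      exact hr2 ((Nat.prime_dvd_prime_iff_eq hr Nat.prime_two).1 h3)
    have hfac : (Nat.card A).factorization r =
        (Nat.card ↥(Cfsg.Lie.twistedG2 K (3 ^ m))).factorization r := by
      rw [hcard, hAcard]
      have e0 : (q ^ 3).factorization r = 0 :=
        Nat.factorization_eq_zero_of_not_dvd (fun h =>
          hr.one_lt.ne' (Nat.Coprime.eq_one_of_dvd (Nat.Coprime.pow_right 3 hr3) h))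
      have e1 : (q ^ 3 + 1).factorization r = 0 := Nat.factorization_eq_zero_of_not_dvd hr4
      have e2 : Nat.factorization 2 r = 0 := Nat.factorization_eq_zero_of_not_dvd (fun h =>
        hr2 ((Nat.prime_dvd_prime_iff_eq hr Nat.prime_two).1 h))
      have n1 : q ^ 3 ≠ 0 := pow_ne_zero 3 (by omega)
      have n2 : q - 1 ≠ 0 := by omega
      have n3 : q ^ 3 + 1 ≠ 0 := Nat.succ_ne_zero _
      rw [Nat.factorization_mul (mul_ne_zero n1 n2) n3, Nat.factorization_mul n1 n2]
      have e3 : (q - 1).factorization r = ((q - 1) / 2).factorization r := by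
        conv_lhs => rw [hq2]
        rw [Nat.factorization_mul (by norm_num) hpos.ne', Finsupp.add_apply, e2, zero_add]
      rw [Finsupp.add_apply, Finsupp.add_apply, e0, e1, e3]
      omega
    obtain ⟨g, hg⟩ := exists_conj_le hr A X hfac hX
    rw [← card_normalizer_conj X g, hAall _ hg, hAN]
    intro hbot
    have h1 : Nat.card (X.map (MulAut.conj g).toMonoidHom) = r := by
      rw [Subgroup.card_map_of_injective (MulAut.conj g).injective, hX]
    rw [hbot, Subgroup.card_bot] at h1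
    exact hr.one_lt.ne h1

end Cfsg.Agent.H968.TwoRee
end
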