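import Mathlib
import Cfsg.Agent.Prune
set_option linter.all false
prune_inst 0x7f00000000000000000000000000000000000000000000000000000000000000000000000000000000000000000000000000000000000000000000000000000000000000000000000000000000000000003fffffffffffffffffffffffffffbeffbdffffffff
open scoped Cfsg.Agent.FastGrp

/-!
# 2-transitive groups: counting and cyclic two-point stabilisers (helper968)

`G` acts on the finite set `Ω`.

* `card_eq` : `|G| = n (n - 1) |G_ab|` for a 2-transitive action;
* `fix_count` : if `X ≤ G_ab` is such that every conjugate of `X` contained in `G_ab` is equal to `X`, then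
  `|X^G| f (f - 1) = n (n - 1)` where `f` is the number of fixed points of `X`.
-/

set_option autoImplicit false

namespace Cfsg.Agent.H968.TwoBasic

open MulAction

variable {G Ω : Type*} [Group G] [MulAction G Ω]

/-- The set of ordered pairs of distinct points, with the diagonal action. -/
def OffD (Ω : Type*) : Type _ := {p : Ω × Ω // p.1 ≠ p.2}

/-- The pair `(a, b)`. -/
def mkD (a b : Ω) (h : a ≠ b) : OffD Ω := ⟨(a, b), h⟩

instance instMulActionOffD : MulAction G (OffD Ω) where
  smul g p := ⟨(g • p.1.1, g • p.1.2), fun h => p.2 (smul_left_cancel g h)⟩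
  one_smul p := Subtype.ext (by
    show ((1 : G) • p.1.1, (1 : G) • p.1.2) = p.1
    simp)
  mul_smul g h p := Subtype.ext (by
    show ((g * h) • p.1.1, (g * h) • p.1.2) = (g • h • p.1.1, g • h • p.1.2)
    simp [mul_smul])

theorem smul_val (g : G) (p : OffD Ω) : (g • p).1 = (g • p.1.1, g • p.1.2) := rfl

theorem card_offD (Ω : Type*) [Finite Ω] : Nat.card (OffD Ω) = Nat.card Ω * (Nat.card Ω - 1) := by
  classical
  have := Fintype.ofFinite Ω
  have e : OffD Ω ≃ {p : Ω × Ω // p ∈ (Finset.univ : Finset Ω).offDiag} :=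
    Equiv.subtypeEquivRight (fun p => by simp [Finset.mem_offDiag])
  rw [Nat.card_congr e, Nat.card_eq_fintype_card, Fintype.card_coe, Finset.offDiag_card,
    Finset.card_univ, Nat.card_eq_fintype_card, Nat.mul_sub, mul_one]

theorem stabilizer_offD (p : OffD Ω) :
    stabilizer G p = stabilizer G p.1.1 ⊓ stabilizer G p.1.2 := by
  ext g
  simp only [mem_stabilizer_iff, Subgroup.mem_inf]
  constructor
  · intro h
    have := congrArg Subtype.val h
    rw [smul_val] at this
    exact ⟨congrArg Prod.fst this, congrArg Prod.snd this⟩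
  · rintro ⟨h1, h2⟩
    exact Subtype.ext (by rw [smul_val, h1, h2])

theorem isPretransitive_offD (h2 : IsMultiplyPretransitive G Ω 2) : IsPretransitive G (OffD Ω) := by
  rw [is_two_pretransitive_iff] at h2
  refine ⟨fun p q => ?_⟩
  obtain ⟨g, hg1, hg2⟩ := h2 p.2 q.2
  exact ⟨g, Subtype.ext (by rw [smul_val, hg1, hg2])⟩

theorem card_eq [Finite Ω] (h2 : IsMultiplyPretransitive G Ω 2) {a b : Ω}
    (hab : a ≠ b) :
    Nat.card G = Nat.card Ω * (Nat.card Ω - 1) * Nat.card ↥(stabilizer G a ⊓ stabilizer G b) := by
  have := isPretransitive_offD h2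
  have h := Subgroup.index_mul_card (stabilizer G (mkD a b hab))
  rw [MulAction.index_stabilizer_of_transitive, card_offD, stabilizer_offD] at h
  exact h.symm

/-- The fixed points of a subgroup. -/
abbrev Fx (X : Subgroup G) (Ω : Type*) [MulAction G Ω] : Type _ := {x : Ω // ∀ g ∈ X, g • x = x}

theorem card_fixed_pairs (X : Subgroup G) [Finite Ω] :
    Nat.card {p : OffD Ω // ∀ g ∈ X, g • p = p} = Nat.card (Fx X Ω) * (Nat.card (Fx X Ω) - 1) := by
  rw [← card_offD]
  refine Nat.card_congr
    { toFun := fun p => mkD (⟨p.1.1.1, fun g hg => ?_⟩ : Fx X Ω) ⟨p.1.1.2, fun g hg => ?_⟩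
        fun h => p.1.2 (congrArg Subtype.val h)
      invFun := fun p => ⟨mkD p.1.1.1 p.1.2.1 fun h => p.2 (Subtype.ext h), fun g hg => ?_⟩
      left_inv := fun p => rfl
      right_inv := fun p => rfl }
  · exact congrArg (fun q : OffD Ω => q.1.1) (p.2 g hg)
  · exact congrArg (fun q : OffD Ω => q.1.2) (p.2 g hg)
  · refine Subtype.ext ?_
    show (g • p.1.1.1, g • p.1.2.1) = (p.1.1.1, p.1.2.1)
    rw [p.1.1.2 g hg, p.1.2.2 g hg]

/-- If `X ≤ G_ab` is the only conjugate of `X` inside `G_ab`, then `N_G(X)` is transitive on the ordered pairs of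
distinct fixed points of `X`, and `|G : N_G(X)| f (f - 1) = n (n - 1)`. -/
theorem fix_count [Finite G] [Finite Ω] (h2 : IsMultiplyPretransitive G Ω 2) {a b : Ω} (hab : a ≠ b)
    (X : Subgroup G) (hX : X ≤ stabilizer G a ⊓ stabilizer G b)
    (hu : ∀ g : G, (∀ x ∈ X, g * x * g⁻¹ ∈ stabilizer G a ⊓ stabilizer G b) → ∀ x ∈ X, g * x * g⁻¹ ∈ X) :
    (Subgroup.normalizer (X : Set G)).index * (Nat.card (Fx X Ω) * (Nat.card (Fx X Ω) - 1)) =
      Nat.card Ω * (Nat.card Ω - 1) := by
  have := isPretransitive_offD h2
  set p : OffD Ω := mkD a b hab with hp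
  have hstab : stabilizer G p = stabilizer G a ⊓ stabilizer G b := stabilizer_offD p
  have hcard : ∀ g : G, (∀ x ∈ X, g * x * g⁻¹ ∈ X) → g ∈ Subgroup.normalizer (X : Set G) := by
    intro g hg
    rw [Subgroup.mem_normalizer_iff]
    intro x
    refine ⟨fun hx => hg x hx, fun hx => ?_⟩
    -- conjugation by g is injective X → X, hence surjective
    have hinj : Function.Injective (fun y : X => (⟨g * y * g⁻¹, hg y y.2⟩ : X)) := by
      intro y z h
      have := congrArg Subtype.val h
      exact Subtype.ext (by simpa using this)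
    have hsurj := Finite.injective_iff_surjective.1 hinj
    obtain ⟨y, hy⟩ := hsurj ⟨_, hx⟩
    have := congrArg Subtype.val hy
    have h3 : (y : G) = x := by simpa using this
    exact h3 ▸ y.2
  have hCN : stabilizer G p ≤ Subgroup.normalizer (X : Set G) := by
    intro g hg
    apply hcard
    apply hu
    intro x hx
    rw [← hstab]
    have hx' : x ∈ stabilizer G p := by rw [hstab]; exact hX hx
    exact mul_mem (mul_mem hg hx') (inv_mem hg)
  set N := Subgroup.normalizer (X : Set G) with hN
  -- the orbit of p under N is the set of the pairs fixed by X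
  have horb : MulAction.orbit N p = {q : OffD Ω | ∀ g ∈ X, g • q = q} := by
    ext q
    constructor
    · rintro ⟨⟨n, hn⟩, rfl⟩ x hx
      show x • n • p = n • p
      have h3 : n⁻¹ * x * n ∈ X := by
        have := (Subgroup.mem_normalizer_iff.1 (inv_mem hn) x).1 hx
        simpa using this
      have h4 : (n⁻¹ * x * n) • p = p := by
        have : n⁻¹ * x * n ∈ stabilizer G p := by rw [hstab]; exact hX h3
        exact this
      calc x • n • p = n • (n⁻¹ * x * n) • p := by simp [smul_smul, mul_assoc]
        _ = n • p := by rw [h4]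
    · intro hq
      obtain ⟨g, hg⟩ := MulAction.exists_smul_eq G p q
      have hgi : g⁻¹ ∈ N := by
        apply hcard
        apply hu
        intro x hx
        rw [← hstab, mem_stabilizer_iff]
        have h5 : x • g • p = g • p := by rw [hg]; exact hq x hx
        calc (g⁻¹ * x * g⁻¹⁻¹) • p = g⁻¹ • x • g • p := by simp [smul_smul, mul_assoc]
          _ = p := by rw [h5, inv_smul_smul]
      exact ⟨⟨g, by simpa using inv_mem hgi⟩, hg⟩
  have h6 : Nat.card (MulAction.orbit N p) = (stabilizer G p).relIndex N := by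
    rw [Nat.card_coe_set_eq, ← MulAction.index_stabilizer]
    congr 1
  have h7 : Nat.card (MulAction.orbit N p) = Nat.card (Fx X Ω) * (Nat.card (Fx X Ω) - 1) := by
    rw [← card_fixed_pairs, horb]
    rfl
  have h8 := Subgroup.relIndex_mul_index hCN
  rw [MulAction.index_stabilizer_of_transitive, card_offD, ← h6, h7] at h8
  rw [mul_comm]
  exact h8

end Cfsg.Agent.H968.TwoBasic
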